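import Mathlib

/-!
# Retract rational varieties and lifting of points to local algebras
-/

set_option autoImplicit false
universe u

open CategoryTheory AlgebraicGeometry

namespace Groth.Agent.RetractRat

variable {k : Type u} [Field k] {X : Scheme.{u}} (f : X ⟶ Spec (CommRingCat.of k))

/-- The structure map of affine space. -/
noncomputable abbrev str0 (k : Type u) [Field k] (n : ℕ) :
    Spec (CommRingCat.of (MvPolynomial (Fin n) k)) ⟶ Spec (CommRingCat.of k) :=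
  Spec.map (CommRingCat.ofHom (algebraMap k (MvPolynomial (Fin n) k)))

theorem lifts_of_retract_gen (U : X.Opens) (σ : Type u)
    (Y : (Spec (CommRingCat.of (MvPolynomial σ k))).Opens)
    (a : (U : Scheme.{u}) ⟶ (Y : Scheme.{u})) (b : (Y : Scheme.{u}) ⟶ (U : Scheme.{u}))
    (hab : a ≫ b = 𝟙 (U : Scheme.{u}))
    (ha : a ≫ Y.ι ≫ Spec.map (CommRingCat.ofHom (algebraMap k (MvPolynomial σ k))) = U.ι ≫ f)
    (hb : b ≫ U.ι ≫ f = Y.ι ≫ Spec.map (CommRingCat.ofHom (algebraMap k (MvPolynomial σ k))))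
    (A : Type u) [CommRing A] [IsLocalRing A] [Algebra k A]
    (g : Spec (CommRingCat.of (IsLocalRing.ResidueField A)) ⟶ (U : Scheme.{u}))
    (hg : g ≫ U.ι ≫ f = Spec.map (CommRingCat.ofHom ((IsLocalRing.residue A).comp (algebraMap k A)))) :
    ∃ g' : Spec (CommRingCat.of A) ⟶ (U : Scheme.{u}),
      Spec.map (CommRingCat.ofHom (IsLocalRing.residue A)) ≫ g' = g ∧
      g' ≫ U.ι ≫ f = Spec.map (CommRingCat.ofHom (algebraMap k A)) := by
  obtain ⟨φ, hφ⟩ := Spec.map_surjective (g ≫ a ≫ Y.ι)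
  have hφk : CommRingCat.ofHom (algebraMap k (MvPolynomial σ k)) ≫ φ =
      CommRingCat.ofHom ((IsLocalRing.residue A).comp (algebraMap k A)) := Spec.map_injective (by
    rw [Spec.map_comp, hφ, Category.assoc, Category.assoc, ha, hg])
  choose t ht using fun i => IsLocalRing.residue_surjective (R := A) (φ.hom (MvPolynomial.X i))
  let ψ : MvPolynomial σ k →+* A := (MvPolynomial.aeval t).toRingHom
  have hψ : CommRingCat.ofHom ψ ≫ CommRingCat.ofHom (IsLocalRing.residue A) = φ := by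
    refine CommRingCat.hom_ext (MvPolynomial.ringHom_ext (fun c => ?_) fun i => ?_)
    · have := congrArg (fun q => q.hom c) hφk
      simpa [ψ, MvPolynomial.algebraMap_eq] using this.symm
    · simpa [ψ] using ht i
  let h : Spec (CommRingCat.of A) ⟶ Spec (CommRingCat.of (MvPolynomial σ k)) :=
    Spec.map (CommRingCat.ofHom ψ)
  have hres : Spec.map (CommRingCat.ofHom (IsLocalRing.residue A)) ≫ h = g ≫ a ≫ Y.ι := by
    rw [← hφ, ← hψ, Spec.map_comp]
  have hrange : Set.range h ⊆ Set.range Y.ι := by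
    rintro _ ⟨z, rfl⟩
    rw [Scheme.Opens.range_ι]
    have hsp : z ⤳ IsLocalRing.closedPoint A :=
      (PrimeSpectrum.le_iff_specializes _ _).mp (IsLocalRing.le_maximalIdeal z.2.ne_top)
    refine (hsp.map h.continuous).mem_open Y.2 ?_
    let c : Spec (CommRingCat.of (IsLocalRing.ResidueField A)) :=
      IsLocalRing.closedPoint (IsLocalRing.ResidueField A)
    have hc : Spec.map (CommRingCat.ofHom (IsLocalRing.residue A)) c = IsLocalRing.closedPoint A :=
      IsLocalRing.comap_closedPoint (IsLocalRing.residue A)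
    rw [← hc, ← Scheme.Hom.comp_apply, hres]
    exact (a (g c)).2
  let l := IsOpenImmersion.lift Y.ι h hrange
  have hl : l ≫ Y.ι = h := IsOpenImmersion.lift_fac _ _ _
  refine ⟨l ≫ b, ?_, ?_⟩
  · have : Spec.map (CommRingCat.ofHom (IsLocalRing.residue A)) ≫ l = g ≫ a := by
      rw [← cancel_mono Y.ι, Category.assoc, hl, Category.assoc, hres]
    rw [← Category.assoc, this, Category.assoc, hab, Category.comp_id]
  · rw [Category.assoc, hb, ← Category.assoc, hl, ← Spec.map_comp]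
    congr 1
    ext c
    simp [ψ, MvPolynomial.algebraMap_eq]

theorem lifts_of_retract (U : X.Opens) (n : ℕ)
    (Y : (Spec (CommRingCat.of (MvPolynomial (Fin n) k))).Opens)
    (a : (U : Scheme.{u}) ⟶ (Y : Scheme.{u})) (b : (Y : Scheme.{u}) ⟶ (U : Scheme.{u}))
    (hab : a ≫ b = 𝟙 (U : Scheme.{u})) (ha : a ≫ Y.ι ≫ str0 k n = U.ι ≫ f)
    (hb : b ≫ U.ι ≫ f = Y.ι ≫ str0 k n)
    (A : Type u) [CommRing A] [IsLocalRing A] [Algebra k A]
    (g : Spec (CommRingCat.of (IsLocalRing.ResidueField A)) ⟶ (U : Scheme.{u}))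
    (hg : g ≫ U.ι ≫ f = Spec.map (CommRingCat.ofHom ((IsLocalRing.residue A).comp (algebraMap k A)))) :
    ∃ g' : Spec (CommRingCat.of A) ⟶ (U : Scheme.{u}),
      Spec.map (CommRingCat.ofHom (IsLocalRing.residue A)) ≫ g' = g ∧
      g' ≫ U.ι ≫ f = Spec.map (CommRingCat.ofHom (algebraMap k A)) := by
  let e := MvPolynomial.renameEquiv k (Equiv.ulift.{u, 0} (α := Fin n))
  let E : Spec (CommRingCat.of (MvPolynomial (ULift.{u} (Fin n)) k)) ≅
      Spec (CommRingCat.of (MvPolynomial (Fin n) k)) :=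
    Scheme.Spec.mapIso (RingEquiv.toCommRingCatIso e.symm.toRingEquiv).op
  have hE : E.hom ≫ str0 k n =
      Spec.map (CommRingCat.ofHom (algebraMap k (MvPolynomial (ULift.{u} (Fin n)) k))) := by
    simp only [E, str0, Functor.mapIso_hom, Iso.op_hom, Scheme.Spec_map, Quiver.Hom.unop_op,
      ← Spec.map_comp]
    congr 1
    exact CommRingCat.hom_ext (RingHom.ext fun c => e.symm.commutes c)
  let Y' := E.hom ⁻¹ᵁ Y
  refine lifts_of_retract_gen f U _ Y' (a ≫ inv (E.hom ∣_ Y)) ((E.hom ∣_ Y) ≫ b) ?_ ?_ ?_ A g hg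
  · simp [hab]
  · rw [Category.assoc, ← hE, ← morphismRestrict_ι_assoc, IsIso.inv_hom_id_assoc, ha]
  · rw [Category.assoc, hb, morphismRestrict_ι_assoc, hE]

variable [IsIntegral X] [LocallyOfFiniteType f]

theorem retract_of_lifts (V : X.Opens) (hV : (V : Set X).Nonempty)
    (H : ∀ (A : Type u) [CommRing A] [IsLocalRing A] [Algebra k A]
      (g : Spec (CommRingCat.of (IsLocalRing.ResidueField A)) ⟶ (V : Scheme.{u})),
      g ≫ V.ι ≫ f = Spec.map (CommRingCat.ofHom ((IsLocalRing.residue A).comp (algebraMap k A))) →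
      ∃ g' : Spec (CommRingCat.of A) ⟶ (V : Scheme.{u}),
        Spec.map (CommRingCat.ofHom (IsLocalRing.residue A)) ≫ g' = g ∧
        g' ≫ V.ι ≫ f = Spec.map (CommRingCat.ofHom (algebraMap k A))) :
    ∃ (U : X.Opens) (n : ℕ) (Y : (Spec (CommRingCat.of (MvPolynomial (Fin n) k))).Opens)
      (a : (U : Scheme.{u}) ⟶ (Y : Scheme.{u})) (b : (Y : Scheme.{u}) ⟶ (U : Scheme.{u})),
      (U : Set X).Nonempty ∧ a ≫ b = 𝟙 (U : Scheme.{u}) ∧
      a ≫ Y.ι ≫ str0 k n = U.ι ≫ f ∧ b ≫ U.ι ≫ f = Y.ι ≫ str0 k n := by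
  obtain ⟨x₁, hx₁⟩ := hV
  obtain ⟨_, ⟨(W : X.Opens), hW, rfl⟩, hxW, hWV⟩ :=
    X.isBasis_affineOpens.exists_subset_of_mem_open hx₁ V.2
  have hWne : Nonempty (W : Scheme.{u}) := ⟨⟨x₁, hxW⟩⟩
  -- the closed immersion into affine space
  obtain ⟨φ, hφ⟩ := Spec.map_surjective (hW.fromSpec ≫ f)
  algebraize [φ.hom]
  have hft : Algebra.FiniteType k Γ(X, W) := by
    have : LocallyOfFiniteType (Spec.map φ) := by rw [hφ]; infer_instance
    exact (HasRingHomProperty.Spec_iff (P := @LocallyOfFiniteType)).mp this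
  obtain ⟨n, π, hπ⟩ := Algebra.FiniteType.iff_quotient_mvPolynomial''.mp hft
  let c : (W : Scheme.{u}) ⟶ Spec (CommRingCat.of (MvPolynomial (Fin n) k)) :=
    hW.isoSpec.hom ≫ Spec.map (CommRingCat.ofHom π.toRingHom)
  have hc : c ≫ str0 k n = W.ι ≫ f := by
    simp only [c, Category.assoc, str0, ← Spec.map_comp]
    rw [show CommRingCat.ofHom (algebraMap k (MvPolynomial (Fin n) k)) ≫
      CommRingCat.ofHom π.toRingHom = φ from CommRingCat.hom_ext π.comp_algebraMap, hφ,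
      ← Category.assoc, hW.isoSpec_hom_fromSpec]
  have : IsClosedImmersion c := by
    have : IsClosedImmersion (Spec.map (CommRingCat.ofHom π.toRingHom)) :=
      IsClosedImmersion.spec_of_surjective _ hπ
    infer_instance
  set η := genericPoint (W : Scheme.{u})
  let x := c η
  let X₀ := Spec (CommRingCat.of (MvPolynomial (Fin n) k))
  -- the local ring of affine space at the generic point of `W`
  let A := X₀.presheaf.stalk x
  obtain ⟨ψ, hψ⟩ := Spec.map_surjective (X₀.fromSpecStalk x ≫ str0 k n)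
  algebraize [ψ.hom]
  have hres : IsIso (c.residueFieldMap η) := by
    rw [ConcreteCategory.isIso_iff_bijective]
    refine ⟨RingHom.injective _, fun z => ?_⟩
    obtain ⟨z, rfl⟩ := IsLocalRing.residue_surjective z
    obtain ⟨w, rfl⟩ := c.stalkMap_surjective η z
    exact ⟨IsLocalRing.residue _ w, rfl⟩
  let g : Spec (CommRingCat.of (IsLocalRing.ResidueField A)) ⟶ (V : Scheme.{u}) :=
    Spec.map (@CategoryTheory.inv _ _ _ _ (c.residueFieldMap η) hres) ≫ (W : Scheme.{u}).fromSpecResidueField η ≫ X.homOfLE hWV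
  have hWf : (W : Scheme.{u}).fromSpecResidueField η ≫ W.ι ≫ f =
      Spec.map (c.residueFieldMap η) ≫ X₀.fromSpecResidueField x ≫ str0 k n := by
    rw [← hc, Scheme.Hom.SpecMap_residueFieldMap_fromSpecResidueField_assoc]
  have hg : g ≫ V.ι ≫ f =
      Spec.map (CommRingCat.ofHom ((IsLocalRing.residue A).comp (algebraMap k A))) := by
    simp only [g, Category.assoc, Scheme.homOfLE_ι_assoc]
    rw [hWf, ← Category.assoc, ← Spec.map_comp]
    erw [IsIso.hom_inv_id, Spec.map_id, Category.id_comp]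
    rw [CommRingCat.ofHom_comp, Spec.map_comp,
      show CommRingCat.ofHom (algebraMap k A) = ψ from rfl, hψ, Scheme.fromSpecResidueField,
      Category.assoc]
    rfl
  obtain ⟨g', hg', hg'f⟩ := H A g hg
  have hg'f' : g' ≫ V.ι ≫ f = X₀.fromSpecStalk x ≫ str0 k n := hg'f.trans hψ
  have : IsIntegral X₀ := inferInstance
  obtain ⟨O, hxO, b₀, hb₀, hb₀f⟩ := spread_out_of_isGermInjective' (str0 k n) (V.ι ≫ f) g' hg'f'
  -- agreement near the generic point of `W`
  set W' : (W : Scheme.{u}).Opens := c ⁻¹ᵁ O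
  have hηW' : η ∈ W' := hxO
  let m₁ : (W' : Scheme.{u}) ⟶ (V : Scheme.{u}) := (c ∣_ O) ≫ b₀
  let m₂ : (W' : Scheme.{u}) ⟶ (V : Scheme.{u}) := W'.ι ≫ X.homOfLE hWV
  let η' : (W' : Scheme.{u}) := ⟨η, hηW'⟩
  have hne : Nonempty (W' : Scheme.{u}) := ⟨η'⟩
  have : IsIntegral (W' : Scheme.{u}) := isIntegral_of_isOpenImmersion W'.ι
  have hfield : IsIso (CommRingCat.ofHom (IsLocalRing.residue ((W : Scheme.{u}).presheaf.stalk η))) := by
    rw [ConcreteCategory.isIso_iff_bijective]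
    let _ : Field ((W : Scheme.{u}).presheaf.stalk η) :=
      inferInstanceAs (Field (W : Scheme.{u}).functionField)
    exact ⟨RingHom.injective _, IsLocalRing.residue_surjective⟩
  have hfac : W'.fromSpecStalkOfMem η hηW' ≫ (c ∣_ O) =
      Spec.map (c.stalkMap η) ≫ O.fromSpecStalkOfMem x hxO := by
    rw [← cancel_mono O.ι, Category.assoc, Category.assoc, morphismRestrict_ι,
      Scheme.Opens.fromSpecStalkOfMem_ι_assoc, Scheme.Opens.fromSpecStalkOfMem_ι,
      Scheme.SpecMap_stalkMap_fromSpecStalk]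
  have hWm : W'.fromSpecStalkOfMem η hηW' ≫ m₁ = W'.fromSpecStalkOfMem η hηW' ≫ m₂ := by
    rw [← cancel_epi (Spec.map (CommRingCat.ofHom
      (IsLocalRing.residue ((W : Scheme.{u}).presheaf.stalk η))))]
    have h2 : W'.fromSpecStalkOfMem η hηW' ≫ m₂ = (W : Scheme.{u}).fromSpecStalk η ≫ X.homOfLE hWV := by
      simp only [m₂, Scheme.Opens.fromSpecStalkOfMem_ι_assoc]
    have h1 : W'.fromSpecStalkOfMem η hηW' ≫ m₁ =
        Spec.map (c.stalkMap η) ≫ g' := by
      rw [hb₀]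
      exact (Category.assoc _ _ _).symm.trans ((congrArg (· ≫ b₀) hfac).trans (Category.assoc _ _ _))
    rw [h1, h2, ← Category.assoc, ← Spec.map_comp]
    have e : c.stalkMap η ≫ CommRingCat.ofHom (IsLocalRing.residue ((W : Scheme.{u}).presheaf.stalk η)) =
        CommRingCat.ofHom (IsLocalRing.residue A) ≫ c.residueFieldMap η := rfl
    erw [e]
    erw [Spec.map_comp, Category.assoc]
    erw [hg']
    simp only [g, ← Category.assoc]
    erw [← Spec.map_comp, IsIso.inv_hom_id, Spec.map_id, Category.id_comp]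
  have hstalk : (W' : Scheme.{u}).fromSpecStalk η' ≫ m₁ = (W' : Scheme.{u}).fromSpecStalk η' ≫ m₂ := by
    have h := hWm
    simp only [Scheme.Opens.fromSpecStalkOfMem, Category.assoc] at h
    exact (cancel_epi _).mp h
  obtain ⟨W₁, hηW₁, hW₁⟩ := spread_out_unique_of_isGermInjective' m₁ m₂ hstalk
  -- assemble
  let ιX : (W₁ : Scheme.{u}) ⟶ X := W₁.ι ≫ W'.ι ≫ W.ι
  let U : X.Opens := ιX.opensRange
  let eU : (W₁ : Scheme.{u}) ≅ (U : Scheme.{u}) := ιX.isoOpensRange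
  have heU : eU.hom ≫ U.ι = ιX := ιX.isoOpensRange_hom_ι
  let a₁ : (W₁ : Scheme.{u}) ⟶ (O : Scheme.{u}) := W₁.ι ≫ (c ∣_ O)
  have ha₁ : a₁ ≫ b₀ ≫ V.ι = ιX := by
    simp only [a₁, Category.assoc]
    rw [← Category.assoc (c ∣_ O), reassoc_of% hW₁]
    simp [m₂, ιX]
  let Y' : (O : Scheme.{u}).Opens := (b₀ ≫ V.ι) ⁻¹ᵁ U
  let Y : X₀.Opens := O.ι ''ᵁ Y'
  let eY : (Y' : Scheme.{u}) ≅ (Y : Scheme.{u}) := O.ι.isoImage Y'
  have heY : eY.hom ≫ Y.ι = Y'.ι ≫ O.ι := O.ι.isoImage_hom_ι Y'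
  have hr : Set.range a₁ ⊆ Set.range Y'.ι := by
    rintro _ ⟨w, rfl⟩
    rw [Scheme.Opens.range_ι]
    show (b₀ ≫ V.ι) (a₁ w) ∈ U
    rw [← Scheme.Hom.comp_apply, ha₁]
    exact ⟨w, rfl⟩
  let a₂ := IsOpenImmersion.lift Y'.ι a₁ hr
  have ha₂ : a₂ ≫ Y'.ι = a₁ := IsOpenImmersion.lift_fac _ _ _
  have hr' : Set.range (Y'.ι ≫ b₀ ≫ V.ι) ⊆ Set.range ιX := by
    rintro _ ⟨w, rfl⟩
    exact w.2
  let b₂ := IsOpenImmersion.lift ιX (Y'.ι ≫ b₀ ≫ V.ι) hr'
  have hb₂ : b₂ ≫ ιX = Y'.ι ≫ b₀ ≫ V.ι := IsOpenImmersion.lift_fac _ _ _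
  refine ⟨U, n, Y, eU.inv ≫ a₂ ≫ eY.hom, eY.inv ≫ b₂ ≫ eU.hom, ⟨ιX ⟨η', hηW₁⟩, ⟨_, rfl⟩⟩, ?_, ?_, ?_⟩
  · have : a₂ ≫ b₂ = 𝟙 _ := by
      rw [← cancel_mono ιX, Category.assoc, hb₂, ← Category.assoc, ha₂, ha₁, Category.id_comp]
    simp [reassoc_of% this]
  · have e : eU.hom ≫ U.ι ≫ f = W₁.ι ≫ W'.ι ≫ W.ι ≫ f := by
      rw [← Category.assoc, heU]; simp [ιX]
    rw [← cancel_epi eU.hom, e, ← hc]
    simp only [Category.assoc, Iso.hom_inv_id_assoc]
    rw [reassoc_of% heY, reassoc_of% ha₂]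
    simp only [a₁, Category.assoc, morphismRestrict_ι_assoc]
    rfl
  · rw [← cancel_epi eY.hom, reassoc_of% heY]
    simp only [Category.assoc, Iso.hom_inv_id_assoc]
    rw [reassoc_of% heU, reassoc_of% hb₂, hb₀f]

end Groth.Agent.RetractRat
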