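import Groth.Agent.GenFree.Image
import Mathlib

/-!
# Cutting down the parameters of a unirational parametrisation
-/

set_option autoImplicit false
universe u

namespace Groth.Agent.RetractRat

open MvPolynomial

theorem exists_cut {k R : Type u} [Field k] [Infinite k] [CommRing R] [IsDomain R] [Algebra k R]
    [Algebra.FiniteType k R] {σ : Type} [Fintype σ] (s : MvPolynomial σ k) (hs : s ≠ 0)
    (ι : R →ₐ[k] Localization.Away s) (hι : Function.Injective ι) :
    ∃ (m : ℕ) (t : MvPolynomial (Fin m) k) (ψ : R →ₐ[k] Localization.Away t),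
      t ≠ 0 ∧ Function.Injective ψ ∧ Algebra.trdeg k R = m := by
  classical
  have : IsDomain (Localization.Away s) := IsLocalization.isDomain_localization (powers_le_nonZeroDivisors_of_noZeroDivisors hs)
  have hPS : Function.Injective (algebraMap (MvPolynomial σ k) (Localization.Away s)) :=
    IsLocalization.injective (Localization.Away s) (powers_le_nonZeroDivisors_of_noZeroDivisors hs)
  let _ : Algebra R (Localization.Away s) := ι.toRingHom.toAlgebra
  have : IsScalarTower k R (Localization.Away s) := IsScalarTower.of_algebraMap_eq fun c => (ι.commutes c).symm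
  have : FaithfulSMul R (Localization.Away s) := (faithfulSMul_iff_algebraMap_injective R (Localization.Away s)).mpr hι
  let x : σ → (Localization.Away s) := fun i => algebraMap (MvPolynomial σ k) (Localization.Away s) (X i)
  have hx : Function.Injective x := hPS.comp (X_injective (R := k))
  let T := Algebra.adjoin R (Set.range x)
  have hPT : ∀ p : (MvPolynomial σ k), algebraMap (MvPolynomial σ k) (Localization.Away s) p ∈ T := fun p => by
    induction p using MvPolynomial.induction_on with
    | C c =>
      rw [← MvPolynomial.algebraMap_eq, ← IsScalarTower.algebraMap_apply k (MvPolynomial σ k) (Localization.Away s),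
        IsScalarTower.algebraMap_apply k R (Localization.Away s)]
      exact T.algebraMap_mem _
    | add p q hp hq => rw [map_add]; exact add_mem hp hq
    | mul_X p i hp => rw [map_mul]; exact mul_mem hp (Algebra.subset_adjoin ⟨i, rfl⟩)
  have : Algebra.IsAlgebraic T (Localization.Away s) := ⟨fun z => by
    obtain ⟨n, p, hz⟩ := IsLocalization.Away.surj s z
    let a : T := ⟨algebraMap (MvPolynomial σ k) (Localization.Away s) (s ^ n), hPT _⟩
    let b : T := ⟨algebraMap (MvPolynomial σ k) (Localization.Away s) p, hPT _⟩
    refine ⟨Polynomial.C a * Polynomial.X - Polynomial.C b, fun h0 => ?_, ?_⟩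
    · have := congrArg (fun q => Polynomial.coeff q 1) h0
      simp only [Polynomial.coeff_sub, Polynomial.coeff_C_mul, Polynomial.coeff_X_one, mul_one,
        Polynomial.coeff_C_succ, sub_zero, Polynomial.coeff_zero] at this
      have ha : algebraMap (MvPolynomial σ k) (Localization.Away s) (s ^ n) = 0 := congrArg Subtype.val this
      exact pow_ne_zero n hs (hPS (ha.trans (map_zero _).symm))
    · simp only [map_sub, map_mul, Polynomial.aeval_C, Polynomial.aeval_X]
      show algebraMap (MvPolynomial σ k) (Localization.Away s) (s ^ n) * z - algebraMap (MvPolynomial σ k) (Localization.Away s) p = 0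
      rw [map_pow, mul_comm, hz, sub_self]⟩
  obtain ⟨u, hu, hbasis⟩ := exists_isTranscendenceBasis_subset (R := R) (Set.range x)
  let J := {i : σ // x i ∈ u}
  let eJ : J ≃ u := Equiv.ofBijective (fun i => ⟨x i.1, i.2⟩)
    ⟨fun i j h => Subtype.ext (hx (congrArg Subtype.val h)), fun z => by
      obtain ⟨i, hi⟩ := hu z.2
      exact ⟨⟨i, hi ▸ z.2⟩, Subtype.ext hi⟩⟩
  let v : J → (Localization.Away s) := fun i => x i.1
  have hv : IsTranscendenceBasis R v := hbasis.comp_equiv eJ
  let I := {i : σ // x i ∉ u}
  let e : I ≃ Fin (Fintype.card I) := Fintype.equivFin I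
  -- the transcendence degree
  have hcard : Algebra.trdeg k R = (Fintype.card I : ℕ) := by
    have hP : Algebra.trdeg k (Localization.Away s) = (Fintype.card σ : ℕ) := by
      have h1 : Algebra.trdeg k (MvPolynomial σ k) = (Fintype.card σ : ℕ) := by
        simp [MvPolynomial.trdeg_of_isDomain]
      have : FaithfulSMul (MvPolynomial σ k) (Localization.Away s) := (faithfulSMul_iff_algebraMap_injective (MvPolynomial σ k) (Localization.Away s)).mpr hPS
      have : Algebra.IsAlgebraic (MvPolynomial σ k) (Localization.Away s) :=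
        IsLocalization.isAlgebraic (Localization.Away s) (Submonoid.powers s)
      have h2 := trdeg_add_eq k (MvPolynomial σ k) (A := Localization.Away s)
      rw [trdeg_eq_zero (R := MvPolynomial σ k) (A := Localization.Away s), add_zero, h1] at h2
      exact h2.symm
    have hJ : Algebra.trdeg R (Localization.Away s) = (Fintype.card J : ℕ) := by
      have := hv.lift_cardinalMk_eq_trdeg
      rw [Cardinal.mk_fintype, Cardinal.lift_natCast] at this
      simpa using this.symm
    have hsum := trdeg_add_eq k R (A := Localization.Away s)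
    rw [hP, hJ] at hsum
    have hlt : Algebra.trdeg k R < Cardinal.aleph0 :=
      lt_of_le_of_lt (le_self_add.trans hsum.le) (Cardinal.natCast_lt_aleph0)
    obtain ⟨d, hd⟩ := Cardinal.lt_aleph0.mp hlt
    rw [hd, ← Nat.cast_add, Nat.cast_inj] at hsum
    have : Fintype.card I = Fintype.card σ - Fintype.card J := Fintype.card_subtype_compl _
    rw [hd, Nat.cast_inj]
    omega
  -- a good specialisation
  let θ : MvPolynomial J R →ₐ[R] (Localization.Away s) := MvPolynomial.aeval v
  have hθ : Function.Injective θ := hv.1
  have : Algebra.FiniteType k (Localization.Away s) := .trans (S := MvPolynomial σ k) inferInstance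
    (IsLocalization.finiteType_of_monoid_fg (Submonoid.powers s) (Localization.Away s))
  have hθft : θ.toRingHom.FiniteType := by
    have h : (θ.toRingHom.comp (algebraMap k (MvPolynomial J R))).FiniteType := by
      rw [show θ.toRingHom.comp (algebraMap k (MvPolynomial J R)) = algebraMap k (Localization.Away s) from
        (θ.restrictScalars k).comp_algebraMap]
      exact RingHom.finiteType_algebraMap.mpr inferInstance
    exact RingHom.FiniteType.of_comp_finiteType h
  obtain ⟨h, hh, hrange⟩ := GenFree.exists_basicOpen_subset_range_comap θ.toRingHom hθft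
    ⟨⊥, Ideal.isPrime_bot⟩ (fun Q z hz => by
      have : θ z = 0 := hz
      rw [hθ (this.trans (map_zero θ).symm)]
      exact zero_mem _)
  have hh0 : h ≠ 0 := fun h0 => hh (h0 ▸ zero_mem _)
  obtain ⟨a, ha⟩ : ∃ a : J → k, eval (fun j => algebraMap k R (a j)) h ≠ 0 := by
    by_contra! H
    refine hh0 (funext_set (fun _ => Set.range (algebraMap k R))
      (fun _ => Set.infinite_range_of_injective (algebraMap k R).injective) fun w hw => ?_)
    choose b hb using fun j => hw j trivial
    rw [map_zero, ← H b]
    congr 2
    exact funext fun j => (hb j).symm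
  let ev := eval (fun j => algebraMap k R (a j))
  obtain ⟨Q, hQ⟩ := hrange (a := ⟨RingHom.ker ev, RingHom.ker_isPrime ev⟩) (show h ∉ _ from ha)
  have hQ' : ∀ z, θ z ∈ Q.asIdeal ↔ ev z = 0 := fun z =>
    SetLike.ext_iff.mp (congrArg PrimeSpectrum.asIdeal hQ) z
  -- the substitution
  let sub : (MvPolynomial σ k) →ₐ[k] MvPolynomial (Fin (Fintype.card I)) k :=
    aeval fun i => if hi : x i ∈ u then C (a ⟨i, hi⟩) else X (e ⟨i, hi⟩)
  let incl : MvPolynomial (Fin (Fintype.card I)) k →ₐ[k] (MvPolynomial σ k) := aeval fun l => X (e.symm l).1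
  let q : (MvPolynomial σ k) →ₐ[k] (Localization.Away s) ⧸ Q.asIdeal :=
    (Ideal.Quotient.mkₐ k Q.asIdeal).comp (IsScalarTower.toAlgHom k (MvPolynomial σ k) (Localization.Away s))
  have hq : q.comp (incl.comp sub) = q := by
    refine MvPolynomial.algHom_ext fun i => ?_
    simp only [AlgHom.comp_apply, sub, aeval_X]
    split_ifs with hi
    · have hmem : θ (X ⟨i, hi⟩ - C (algebraMap k R (a ⟨i, hi⟩))) ∈ Q.asIdeal :=
        (hQ' _).mpr (by simp [ev])
      have hC : q (incl (C (a ⟨i, hi⟩))) = Ideal.Quotient.mk Q.asIdeal (algebraMap k (Localization.Away s) (a ⟨i, hi⟩)) := by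
        rw [← MvPolynomial.algebraMap_eq, AlgHom.commutes, AlgHom.commutes]; rfl
      rw [hC]
      refine (Ideal.Quotient.eq.mpr ?_).symm
      have e : θ (X ⟨i, hi⟩ - C (algebraMap k R (a ⟨i, hi⟩))) = x i - algebraMap k (Localization.Away s) (a ⟨i, hi⟩) := by
        simp only [θ, map_sub, aeval_X, aeval_C, ← IsScalarTower.algebraMap_apply k R (Localization.Away s), v]
      rw [e] at hmem
      exact hmem
    · simp [incl]
  have hsubQ : ∀ p, sub p = 0 → algebraMap (MvPolynomial σ k) (Localization.Away s) p ∈ Q.asIdeal := fun p hp => by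
    have : q p = 0 := by rw [← hq]; simp [hp]
    exact Ideal.Quotient.eq_zero_iff_mem.mp this
  have hunit : IsUnit (algebraMap (MvPolynomial σ k) (Localization.Away s) s) := IsLocalization.Away.algebraMap_isUnit s
  let t := sub s
  have ht : t ≠ 0 := fun h0 =>
    Q.isPrime.ne_top (Ideal.eq_top_of_isUnit_mem _ (hsubQ s h0) hunit)
  let St := Localization.Away t
  have hsu : ∀ y : Submonoid.powers s,
      IsUnit ((IsScalarTower.toAlgHom k (MvPolynomial (Fin (Fintype.card I)) k) St).comp sub y) := by
    rintro ⟨_, n, rfl⟩
    show IsUnit (algebraMap _ St (sub (s ^ n)))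
    rw [map_pow, map_pow]
    exact (IsLocalization.Away.algebraMap_isUnit t).pow n
  let ψ₀ : (Localization.Away s) →ₐ[k] St := IsLocalization.liftAlgHom hsu
  refine ⟨_, t, ψ₀.comp ι, ht, (injective_iff_map_eq_zero _).mpr fun r hr => ?_, hcard⟩
  obtain ⟨n, p, hp⟩ := IsLocalization.Away.surj s (ι r)
  have hp' : sub p = 0 := by
    have h1 := congrArg ψ₀ hp
    rw [map_mul, show ψ₀ (ι r) = 0 from hr, zero_mul] at h1
    have h2 : ψ₀ (algebraMap (MvPolynomial σ k) (Localization.Away s) p) = algebraMap _ St (sub p) :=
      IsLocalization.lift_eq (S := Localization.Away s) hsu p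
    rw [h2] at h1
    exact IsLocalization.injective St (powers_le_nonZeroDivisors_of_noZeroDivisors ht)
      (h1.symm.trans (map_zero _).symm)
  have hr0 : ι r ∈ Q.asIdeal :=
    (Ideal.mul_unit_mem_iff_mem _ (hunit.pow n)).mp (hp ▸ hsubQ p hp')
  have := (hQ' (C r)).mp (by simpa [θ, RingHom.algebraMap_toAlgebra] using hr0)
  simpa [ev] using this

end Groth.Agent.RetractRat
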