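import Groth.Agent.RetractRat.Basic

/-!
# Direct factors of rational varieties
-/

set_option autoImplicit false
universe u

open CategoryTheory CategoryTheory.Limits AlgebraicGeometry

namespace Groth.Agent.RetractRat

theorem exists_point {k : Type u} [Field k] [Infinite k] {σ : Type u}
    (Y : (Spec (CommRingCat.of (MvPolynomial σ k))).Opens) (hY : (Y : Set ↥(Spec (CommRingCat.of (MvPolynomial σ k)))).Nonempty) :
    ∃ q : Spec (CommRingCat.of k) ⟶ (Y : Scheme.{u}),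
      q ≫ Y.ι ≫ Spec.map (CommRingCat.ofHom (algebraMap k (MvPolynomial σ k))) = 𝟙 _ := by
  obtain ⟨z, hz⟩ := hY
  obtain ⟨_, ⟨p, rfl⟩, hzp, hpY⟩ :=
    PrimeSpectrum.isTopologicalBasis_basic_opens.exists_subset_of_mem_open hz Y.2
  have hp : p ≠ 0 := fun h => hzp (h ▸ zero_mem _)
  obtain ⟨x, hx⟩ : ∃ x, MvPolynomial.eval x p ≠ 0 := by
    by_contra! h
    exact hp (MvPolynomial.funext fun x => by rw [h x, map_zero])
  let q₀ := Spec.map (CommRingCat.ofHom (MvPolynomial.eval x))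
  have hr : Set.range q₀ ⊆ Set.range Y.ι := by
    rintro _ ⟨w, rfl⟩
    rw [Scheme.Opens.range_ι]
    apply hpY
    show p ∉ Ideal.comap (MvPolynomial.eval x) (PrimeSpectrum.asIdeal w)
    rw [Ideal.mem_comap]
    rw [(Ideal.eq_bot_or_top (PrimeSpectrum.asIdeal w)).resolve_right w.2.ne_top]
    exact hx
  refine ⟨IsOpenImmersion.lift Y.ι q₀ hr, ?_⟩
  rw [← Category.assoc, IsOpenImmersion.lift_fac, ← Spec.map_comp, ← Spec.map_id]
  congr 1
  ext c
  simp [MvPolynomial.algebraMap_eq]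

theorem retract_of_factor (k : Type u) [Field k] [Infinite k]
    (X Y : Scheme.{u}) (f : X ⟶ Spec (CommRingCat.of k)) (g : Y ⟶ Spec (CommRingCat.of k))
    [IsIntegral X] [LocallyOfFiniteType f] [IsIntegral (pullback f g)]
    [Scheme.IsRationalOver (pullback.fst f g ≫ f)] :
    ∃ (U : X.Opens) (n : ℕ) (Y' : (Spec (CommRingCat.of (MvPolynomial (Fin n) k))).Opens)
        (a : (U : Scheme.{u}) ⟶ (Y' : Scheme.{u})) (b : (Y' : Scheme.{u}) ⟶ (U : Scheme.{u})),
        (U : Set X).Nonempty ∧ a ≫ b = 𝟙 (U : Scheme.{u}) ∧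
        a ≫ Y'.ι ≫ str0 k n = U.ι ≫ f ∧
        b ≫ U.ι ≫ f = Y'.ι ≫ str0 k n := by
  obtain ⟨σ, ⟨θ, hθ⟩⟩ := Scheme.IsRationalOver.exists_birationalOver_affineSpace (pullback.fst f g ≫ f)
  let E := AffineSpace.SpecIso σ (CommRingCat.of k)
  let Ω := θ.source
  let O := E.inv ⁻¹ᵁ θ.target
  let strσ := Spec.map (CommRingCat.ofHom (algebraMap k (MvPolynomial σ k)))
  have hE : E.inv ≫ (𝔸(σ; Spec (CommRingCat.of k)) ↘ Spec (CommRingCat.of k)) = strσ :=
    AffineSpace.SpecIso_inv_over _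
  let a₀ : (Ω : Scheme.{u}) ⟶ (O : Scheme.{u}) := θ.iso.hom ≫ inv (E.inv ∣_ θ.target)
  let b₀ : (O : Scheme.{u}) ⟶ (Ω : Scheme.{u}) := (E.inv ∣_ θ.target) ≫ θ.iso.inv
  have hab : a₀ ≫ b₀ = 𝟙 _ := by simp [a₀, b₀]
  have ha : a₀ ≫ O.ι ≫ strσ = Ω.ι ≫ pullback.fst f g ≫ f := by
    simp only [a₀, Category.assoc, ← hE]
    rw [← morphismRestrict_ι_assoc, IsIso.inv_hom_id_assoc]
    exact hθ
  have hb : b₀ ≫ Ω.ι ≫ pullback.fst f g ≫ f = O.ι ≫ strσ := by
    rw [← ha, ← Category.assoc b₀ a₀]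
    simp [a₀, b₀]
  have hne : (Ω : Set ↥(pullback f g)).Nonempty := θ.dense_source.nonempty
  obtain ⟨w, hw⟩ := hne
  obtain ⟨q, hq⟩ := exists_point (σ := σ) O ⟨_, (a₀ ⟨w, hw⟩).2⟩
  let P : Spec (CommRingCat.of k) ⟶ pullback f g := q ≫ b₀ ≫ Ω.ι
  have hP : P ≫ pullback.fst f g ≫ f = 𝟙 _ := by
    simp only [P, Category.assoc]
    rw [hb, hq]
  let ix : X ⟶ pullback f g := pullback.lift (𝟙 X) (f ≫ P ≫ pullback.snd f g) (by
    rw [Category.id_comp, Category.assoc, Category.assoc, ← pullback.condition, hP, Category.comp_id])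
  have hix : (P ≫ pullback.fst f g) ≫ ix = P := by
    apply pullback.hom_ext
    · simp only [ix, Category.assoc, pullback.lift_fst, Category.comp_id]
    · simp only [ix, Category.assoc, pullback.lift_snd]
      rw [reassoc_of% hP]
  let U := ix ⁻¹ᵁ Ω
  have hU : (U : Set X).Nonempty := by
    let t : Spec (CommRingCat.of k) := IsLocalRing.closedPoint k
    refine ⟨(P ≫ pullback.fst f g) t, ?_⟩
    show ix ((P ≫ pullback.fst f g) t) ∈ Ω
    rw [← Scheme.Hom.comp_apply, hix]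
    exact ((q ≫ b₀) t).2
  have hixf : ix ≫ pullback.fst f g = 𝟙 X := pullback.lift_fst _ _ _
  refine retract_of_lifts f U hU fun A _ _ _ g₀ hg₀ => ?_
  obtain ⟨h, hh, hhf⟩ := lifts_of_retract_gen (pullback.fst f g ≫ f) Ω σ O a₀ b₀ hab ha hb A
    (g₀ ≫ (ix ∣_ Ω)) (by
      rw [Category.assoc, morphismRestrict_ι_assoc, reassoc_of% hixf]
      exact hg₀)
  let l₀ := h ≫ Ω.ι ≫ pullback.fst f g
  have hl₀ : Spec.map (CommRingCat.ofHom (IsLocalRing.residue A)) ≫ l₀ = g₀ ≫ U.ι := by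
    simp only [l₀]
    rw [reassoc_of% hh, morphismRestrict_ι_assoc, hixf, Category.comp_id]
  have hr : Set.range l₀ ⊆ Set.range U.ι := by
    rintro _ ⟨z, rfl⟩
    rw [Scheme.Opens.range_ι]
    have hsp : z ⤳ IsLocalRing.closedPoint A :=
      (PrimeSpectrum.le_iff_specializes _ _).mp (IsLocalRing.le_maximalIdeal z.2.ne_top)
    refine (hsp.map l₀.continuous).mem_open U.2 ?_
    let c : Spec (CommRingCat.of (IsLocalRing.ResidueField A)) :=
      IsLocalRing.closedPoint (IsLocalRing.ResidueField A)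
    have hc : Spec.map (CommRingCat.ofHom (IsLocalRing.residue A)) c = IsLocalRing.closedPoint A :=
      IsLocalRing.comap_closedPoint (IsLocalRing.residue A)
    rw [← hc, ← Scheme.Hom.comp_apply, hl₀]
    exact (g₀ c).2
  refine ⟨IsOpenImmersion.lift U.ι l₀ hr, ?_, ?_⟩
  · rw [← cancel_mono U.ι, Category.assoc, IsOpenImmersion.lift_fac, hl₀]
  · rw [← Category.assoc, IsOpenImmersion.lift_fac]
    simpa only [l₀, Category.assoc] using hhf

end Groth.Agent.RetractRat
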