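import Groth.Agent.RetractRat.Cut
import Groth.Agent.WeilLib.Trdeg
import Groth.Agent.BMCoh.Height

/-!
# Unirational varieties are dominated by rational varieties of the same dimension
-/

set_option autoImplicit false
universe u

open CategoryTheory AlgebraicGeometry

namespace Groth.Agent.RetractRat

variable {k : Type u} [Field k]

theorem dim_eq_trdeg (X : Scheme.{u}) (f : X ⟶ Spec (CommRingCat.of k)) [IsIntegral X]
    [LocallyOfFiniteType f] (W : X.Opens) (hW : IsAffineOpen W) [Nonempty W] :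
    letI := (WeilLib.secStr f W).toAlgebra
    ∃ d : ℕ, Algebra.trdeg k Γ(X, W) = d ∧ topologicalKrullDim X = d := by
  let η := genericPoint X
  have hη : η ∈ W := (genericPoint_spec X).mem_open_set_iff W.2 |>.mpr
    (by obtain ⟨w⟩ := (inferInstance : Nonempty W); exact ⟨w.1, trivial, w.2⟩)
  let _ : Algebra k Γ(X, W) := (WeilLib.secStr f W).toAlgebra
  let _ : Algebra k (X.residueField η) := (WeilLib.kStr f η).toAlgebra
  have : Algebra.FiniteType k Γ(X, W) := WeilLib.finiteType_secStr f hW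
  let ψ : Γ(X, W) →ₐ[k] X.residueField η :=
    { (X.evaluation W η hη).hom with
      commutes' := RingHom.congr_fun (WeilLib.evaluation_comp_secStr f hη) }
  have hloc : letI := X.presheaf.algebra_section_stalk ⟨η, hη⟩
      IsFractionRing Γ(X, W) (X.presheaf.stalk η) :=
    functionField_isFractionRing_of_isAffineOpen X W hW
  let := X.presheaf.algebra_section_stalk ⟨η, hη⟩
  let _ : Field (X.presheaf.stalk η) := inferInstanceAs (Field X.functionField)
  have hinj : Function.Injective ψ :=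
    (IsLocalRing.residue (X.presheaf.stalk η)).injective.comp (IsFractionRing.injective Γ(X, W) _)
  obtain ⟨s, hs, hdim⟩ := WeilLib.exists_dim_eq_trdeg ψ hinj (fun z => by
    obtain ⟨z, rfl⟩ := IsLocalRing.residue_surjective z
    obtain ⟨⟨b, d⟩, hbd⟩ := IsLocalization.surj (nonZeroDivisors Γ(X, W)) z
    refine ⟨b, d, fun h => nonZeroDivisors.coe_ne_zero d (hinj (h.trans (map_zero ψ).symm)), ?_⟩
    show IsLocalRing.residue _ z * IsLocalRing.residue _ (algebraMap Γ(X, W) (X.presheaf.stalk η) d) =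
      IsLocalRing.residue _ (algebraMap Γ(X, W) (X.presheaf.stalk η) b)
    rw [← map_mul, hbd])
  refine ⟨s, ?_, ?_⟩
  · obtain ⟨t, ht, hdim'⟩ := WeilLib.exists_dim_eq_trdeg
      (IsScalarTower.toAlgHom k Γ(X, W) (FractionRing Γ(X, W)))
      (IsFractionRing.injective Γ(X, W) (FractionRing Γ(X, W))) (fun z => by
        obtain ⟨⟨b, d⟩, hbd⟩ := IsLocalization.surj (nonZeroDivisors Γ(X, W)) z
        refine ⟨b, d, fun h => nonZeroDivisors.coe_ne_zero d
          (IsFractionRing.injective Γ(X, W) (FractionRing Γ(X, W)) (h.trans (map_zero _).symm)), hbd⟩)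
    obtain rfl : t = s := by exact_mod_cast hdim'.symm.trans hdim
    have : Algebra.IsAlgebraic Γ(X, W) (FractionRing Γ(X, W)) :=
      IsLocalization.isAlgebraic _ (nonZeroDivisors Γ(X, W))
    have h := trdeg_add_eq k Γ(X, W) (A := FractionRing Γ(X, W))
    rw [trdeg_eq_zero (R := Γ(X, W)) (A := FractionRing Γ(X, W)), add_zero, ht] at h
    exact h
  · obtain ⟨h1, h2⟩ := WeilLib.exists_pdim_eq_trd f η
    have h3 : WeilLib.trd f η = (s : Cardinal.{u}) := hs
    rw [h3, Nat.cast_inj] at h1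
    have h4 : topologicalKrullDim X = ((WeilCoh.pdim X η : ℕ∞) : WithBot ℕ∞) := by
      rw [← h2, ← BMCoh.topologicalKrullDim_closure_singleton, genericPoint_closure]
      exact (IsHomeomorph.topologicalKrullDim_eq _ (Homeomorph.Set.univ ↥X).isHomeomorph).symm
    rw [h4, ← h1]
    rfl

theorem exists_dominant_same_dim [Infinite k]
    (X : Scheme.{u}) (f : X ⟶ Spec (CommRingCat.of k)) [IsIntegral X] [LocallyOfFiniteType f]
    (n : ℕ) (W : (Spec (CommRingCat.of (MvPolynomial (Fin n) k))).Opens)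
    (hW : (W : Set ↑(Spec (CommRingCat.of (MvPolynomial (Fin n) k)))).Nonempty)
    (φ : (W : Scheme.{u}) ⟶ X) [IsDominant φ]
    (hφ : φ ≫ f = W.ι ≫ Spec.map (CommRingCat.ofHom (algebraMap k (MvPolynomial (Fin n) k)))) :
    ∃ (m : ℕ) (W' : (Spec (CommRingCat.of (MvPolynomial (Fin m) k))).Opens) (ψ : (W' : Scheme.{u}) ⟶ X),
      (W' : Set ↑(Spec (CommRingCat.of (MvPolynomial (Fin m) k)))).Nonempty ∧ IsDominant ψ ∧
      ψ ≫ f = W'.ι ≫ Spec.map (CommRingCat.ofHom (algebraMap k (MvPolynomial (Fin m) k))) ∧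
      (m : WithBot ℕ∞) = topologicalKrullDim X := by
  obtain ⟨w, hw⟩ := hW
  obtain ⟨_, ⟨(V : X.Opens), hV, rfl⟩, hxV, -⟩ :=
    X.isBasis_affineOpens.exists_subset_of_mem_open (Set.mem_univ (φ ⟨w, hw⟩)) isOpen_univ
  have : Nonempty V := ⟨⟨_, hxV⟩⟩
  let O : (Spec (CommRingCat.of (MvPolynomial (Fin n) k))).Opens := W.ι ''ᵁ (φ ⁻¹ᵁ V)
  have hwO : w ∈ O := ⟨⟨w, hw⟩, hxV, rfl⟩
  obtain ⟨_, ⟨s, rfl⟩, hws, hsO⟩ :=
    PrimeSpectrum.isTopologicalBasis_basic_opens.exists_subset_of_mem_open hwO O.2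
  have hs : s ≠ 0 := fun h => hws (h ▸ zero_mem _)
  let S := Localization.Away s
  let j : Spec (CommRingCat.of S) ⟶ Spec (CommRingCat.of (MvPolynomial (Fin n) k)) :=
    Spec.map (CommRingCat.ofHom (algebraMap _ S))
  have hjr : Set.range j = (PrimeSpectrum.basicOpen s : Set (PrimeSpectrum _)) :=
    PrimeSpectrum.localization_away_comap_range S s
  have : IsOpenImmersion j := IsOpenImmersion.of_isLocalization s
  have hjW : Set.range j ⊆ Set.range W.ι := by
    rw [hjr]
    exact hsO.trans (by rintro _ ⟨y, -, rfl⟩; exact ⟨y, rfl⟩)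
  let j' := IsOpenImmersion.lift W.ι j hjW
  have hj' : j' ≫ W.ι = j := IsOpenImmersion.lift_fac _ _ _
  have : IsOpenImmersion j' := by
    have : IsOpenImmersion (j' ≫ W.ι) := by rw [hj']; infer_instance
    exact IsOpenImmersion.of_comp j' W.ι
  let g := j' ≫ φ
  have hgV : Set.range g ⊆ (V : Set X) := by
    rintro _ ⟨z, rfl⟩
    obtain ⟨y, hy, hyz⟩ := hsO (hjr ▸ ⟨z, rfl⟩ : j z ∈ (PrimeSpectrum.basicOpen s : Set (PrimeSpectrum _)))
    have : y = j' z := W.ι.isOpenEmbedding.injective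
      (hyz.trans (by rw [← Scheme.Hom.comp_apply, hj']))
    rw [this] at hy
    rw [show g z = φ (j' z) from Scheme.Hom.comp_apply _ _ _]
    exact hy
  obtain ⟨ι₀, hι₀⟩ := Spec.map_surjective
    (IsOpenImmersion.lift hV.fromSpec g (by rw [hV.range_fromSpec]; exact hgV))
  have hg : Spec.map ι₀ ≫ hV.fromSpec = g := by rw [hι₀, IsOpenImmersion.lift_fac]
  let _ : Algebra k Γ(X, V) := (WeilLib.secStr f V).toAlgebra
  have : Algebra.FiniteType k Γ(X, V) := WeilLib.finiteType_secStr f hV
  have hsec : hV.fromSpec ≫ f = Spec.map (CommRingCat.ofHom (algebraMap k Γ(X, V))) := by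
    have h := (isAffineOpen_top (Spec (CommRingCat.of k))).SpecMap_appLE_fromSpec f hV
      (le_top : V ≤ f ⁻¹ᵁ ⊤)
    rw [← h, IsAffineOpen.fromSpec_top, Scheme.isoSpec_Spec_inv, ← Spec.map_comp]
    rfl
  have hgf : g ≫ f = Spec.map (CommRingCat.ofHom (algebraMap k S)) := by
    simp only [g, Category.assoc]
    rw [hφ, ← Category.assoc, hj', ← Spec.map_comp]
    congr 1
  let ι : Γ(X, V) →ₐ[k] S :=
    { ι₀.hom with
      commutes' := fun c => by
        have h : CommRingCat.ofHom (algebraMap k Γ(X, V)) ≫ ι₀ = CommRingCat.ofHom (algebraMap k S) :=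
          Spec.map_injective (by rw [Spec.map_comp, ← hsec, ← Category.assoc, hg, hgf])
        exact congrArg (fun q => q.hom c) h }
  have hdense : DenseRange g := by
    have h1 : DenseRange j' := by
      have this' : IsIrreducible (Set.univ : Set (W : Scheme.{u})) := by
        have : IsIntegral (W : Scheme.{u}) :=
          have : Nonempty (W : Scheme.{u}) := ⟨⟨w, hw⟩⟩
          isIntegral_of_isOpenImmersion W.ι
        exact IrreducibleSpace.isIrreducible_univ _
      refine dense_iff_inter_open.mpr fun O' hO' hne => ?_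
      have : Nonempty (Spec (CommRingCat.of S)) := by
        obtain ⟨z, hz⟩ := hjr.ge hws
        exact ⟨z⟩
      obtain ⟨y, -, h⟩ := this'.2 O' (Set.range j') hO' j'.isOpenEmbedding.isOpen_range
        (by rwa [Set.univ_inter]) (by rw [Set.univ_inter]; exact Set.range_nonempty _)
      exact ⟨y, h⟩
    rw [show ⇑g = ⇑φ ∘ ⇑j' from funext fun _ => Scheme.Hom.comp_apply _ _ _]
    exact φ.denseRange.comp h1 φ.continuous
  have hinj : Function.Injective ι := by
    have : IsDomain Γ(X, V) := inferInstance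
    have hd : DenseRange (PrimeSpectrum.comap ι₀.hom) := by
      refine dense_iff_inter_open.mpr fun O' hO' hne => ?_
      obtain ⟨y, hy⟩ := hne
      obtain ⟨z, ⟨y', hy', rfl⟩, z', hz'⟩ := dense_iff_inter_open.mp hdense
        (hV.fromSpec '' O') (hV.fromSpec.isOpenEmbedding.isOpenMap _ hO') ⟨_, y, hy, rfl⟩
      refine ⟨y', hy', z', hV.fromSpec.isOpenEmbedding.injective ?_⟩
      rw [← hz', ← hg]
      rfl
    rw [PrimeSpectrum.denseRange_comap_iff_ker_le_nilRadical, nilradical_eq_zero] at hd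
    exact (RingHom.injective_iff_ker_eq_bot _).mpr (le_bot_iff.mp hd)
  obtain ⟨m, t, ψ, ht, hψ, hm⟩ := exists_cut s hs ι hinj
  obtain ⟨d, hd, hdimX⟩ := dim_eq_trdeg X f V hV
  obtain rfl : m = d := by exact_mod_cast hm.symm.trans hd
  let St := Localization.Away t
  let jt : Spec (CommRingCat.of St) ⟶ Spec (CommRingCat.of (MvPolynomial (Fin m) k)) :=
    Spec.map (CommRingCat.ofHom (algebraMap _ St))
  have : IsOpenImmersion jt := IsOpenImmersion.of_isLocalization t
  refine ⟨m, jt.opensRange, jt.isoOpensRange.inv ≫ Spec.map (CommRingCat.ofHom ψ.toRingHom) ≫ hV.fromSpec,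
    ?_, ?_, ?_, hdimX.symm⟩
  · have : IsDomain St := IsLocalization.isDomain_localization (powers_le_nonZeroDivisors_of_noZeroDivisors ht)
    exact ⟨_, Classical.arbitrary (PrimeSpectrum St), rfl⟩
  · have h1 : IsDominant (Spec.map (CommRingCat.ofHom ψ.toRingHom)) := ⟨by
      refine (PrimeSpectrum.denseRange_comap_iff_ker_le_nilRadical _).mpr ?_
      exact ((RingHom.injective_iff_ker_eq_bot ψ.toRingHom).mp hψ).le.trans bot_le⟩
    have h2 : IsDominant hV.fromSpec := ⟨by
      rw [DenseRange, hV.range_fromSpec]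
      exact V.2.dense ⟨_, hxV⟩⟩
    infer_instance
  · simp only [Category.assoc, hsec, ← Spec.map_comp]
    rw [← CommRingCat.ofHom_comp, show ψ.toRingHom.comp (algebraMap k Γ(X, V)) = algebraMap k St from
      ψ.comp_algebraMap, IsScalarTower.algebraMap_eq k (MvPolynomial (Fin m) k) St,
      CommRingCat.ofHom_comp, Spec.map_comp, Scheme.Hom.isoOpensRange_inv_comp_assoc]

end Groth.Agent.RetractRat
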